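import Groth.Agent.ElemSq.Induct
import Groth.Agent.HenselChart.Family
import Groth.Agent.AlgSpLib.NoethPts

/-!
# Elementary distinguished squares enlarging a dense open
-/

set_option autoImplicit false
universe u

open CategoryTheory CategoryTheory.Limits AlgebraicGeometry

set_option backward.isDefEq.respectTransparency false

namespace Groth.Agent.ElemSq

open _root_.AlgSp Groth.Agent.AlgSpLib

variable {S : Scheme.{u}}

theorem range_map_chart {X : Sp S} {V : Over S} (g : (yon S).obj V ⟶ X) :
    Set.range (Points.map g) = Set.range (Points.ofPt g) := by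
  ext x
  constructor
  · rintro ⟨y, rfl⟩
    obtain ⟨v, rfl⟩ := (Points.schemeEquiv V).surjective y
    exact ⟨v, Points.ofPt_eq_map_ofScheme g v⟩
  · rintro ⟨v, rfl⟩
    exact ⟨Points.ofScheme V v, (Points.ofPt_eq_map_ofScheme g v).symm⟩

/-- only the part of a chart lying over the new points matters -/
theorem isoOver_extend {X : Sp S} (hX : IsAlgSpace X) {V V' : Over S} {g : (yon S).obj V ⟶ X} {A : Set (Points X)}
    (o : V' ⟶ V) [IsOpenImmersion o.left] (h : IsoOver ((yon S).map o ≫ g) A)
    (hout : ∀ v : ↥V.left, Points.ofPt g v ∉ A → v ∈ Set.range o.left) : IsoOver g A := by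
  intro R q hR hred hq
  have sq := IsPullback.of_hasPullback q g
  have sq' := IsPullback.of_hasPullback q ((yon S).map o ≫ g)
  have := h R q hR hred fun r => ⟨by
    obtain ⟨v, hv⟩ := (hq r).1
    obtain ⟨w, hw⟩ := hout v (hv ▸ (hq r).2)
    exact ⟨w, by rw [ofPt_comp, hw, hv]⟩, (hq r).2⟩
  let l : pullback q ((yon S).map o ≫ g) ⟶ pullback q g :=
    pullback.lift (pullback.fst _ _) (pullback.snd _ _ ≫ (yon S).map o)
      (by rw [pullback.condition, Category.assoc])
  have hl : IsPullback (pullback.snd q ((yon S).map o ≫ g)) l ((yon S).map o) (pullback.snd q g) := by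
    refine (IsPullback.of_right ?_ (pullback.lift_snd _ _ _) sq).flip
    rw [pullback.lift_fst]
    exact sq'
  have hP := isAlgSpace_of_isPullback_space hX hR (IsAlgSpace.yon_obj V) sq
  have hP' := isAlgSpace_of_isPullback_space hX hR (IsAlgSpace.yon_obj V') sq'
  have hl' : IsIso l := by
    refine isIso_of_open_surjective hP' hP (repWith_baseChange hl ((repWith_yon_iff o).2 ‹_›)) fun x => ?_
    obtain ⟨v, hv⟩ := (Points.schemeEquiv V).surjective (Points.map (pullback.snd q g) x)
    obtain ⟨w, hw⟩ := hout v (fun hA => (hq (Points.map (pullback.fst q g) x)).2 (by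
      rw [← Points.map_comp, pullback.condition, Points.map_comp, ← hv]
      exact (Points.ofPt_eq_map_ofScheme g v) ▸ hA))
    obtain ⟨p, -, hp⟩ := exists_point_of_isPullback hl (Points.ofScheme V' w) x (by
      rw [← Points.ofPt_eq_map_ofScheme, ← Category.comp_id ((yon S).map o), ofPt_comp, hw]
      exact hv)
    exact ⟨p, hp⟩
  have e : pullback.fst q g = inv l ≫ pullback.fst q ((yon S).map o ≫ g) := by
    rw [IsIso.eq_inv_comp]
    exact pullback.lift_fst _ _ _
  rw [e]
  infer_instance

/-- a dense open is enlarged by a square with dominant fibre product -/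
theorem exists_square_dominant [QuasiSeparatedSpace ↥S] {X U : Space S}
    (hqc : IsQuasiCompactSp X.obj) (hqs : IsQuasiSeparatedSp X.obj) (hN : IsLocNoethSp X.obj)
    (j : U ⟶ X) (hj : RepWith @IsOpenImmersion j.hom) (hne : Set.range (Points.map j.hom) ≠ Set.univ) :
    ∃ (V : Over S) (_ : IsAffine V.left) (W : Space S) (jW : W ⟶ X) (jU : U ⟶ W) (φ : (ofScheme S).obj V ⟶ W)
      (P : Space S) (p : P ⟶ U) (q : P ⟶ (ofScheme S).obj V),
      RepWith @Etale (φ ≫ jW).hom ∧ RepWith @IsOpenImmersion jW.hom ∧ jU ≫ jW = j ∧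
        Set.range (Points.map jW.hom) = Set.range (Points.map j.hom) ∪ Set.range (Points.map (φ ≫ jW).hom) ∧
        Set.range (Points.map jW.hom) ≠ Set.range (Points.map j.hom) ∧
        IsElemDistSq jU.hom φ.hom ∧ IsPullback p.hom q.hom jU.hom φ.hom ∧ IsDominantMor p.hom := by
  have hX := X.property
  obtain ⟨n, Uo, jp, k, T, i, hjp, hkj, hj1, hempty, hred, hV⟩ := S10419.result X hqc hqs
  obtain ⟨p, hp1, hpA, hpne⟩ : ∃ p, 1 ≤ p ∧
      Set.range (Points.map (jp (p + 1)).hom) ⊆ Set.range (Points.map j.hom) ∧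
      ¬ Set.range (Points.map (jp p).hom) ⊆ Set.range (Points.map j.hom) := by
    by_contra hcon
    push Not at hcon
    have hall : ∀ d p, 1 ≤ p → p + d = n + 1 →
        Set.range (Points.map (jp p).hom) ⊆ Set.range (Points.map j.hom) := by
      intro d
      induction d with
      | zero =>
        intro p _ hp
        obtain rfl : p = n + 1 := by omega
        have := hempty
        rintro _ ⟨x, -⟩
        exact isEmptyElim x
      | succ d ih => exact fun p hp hpd => hcon p hp (ih (p + 1) (by omega) (by omega))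
    have : IsIso (jp 1).hom := ⟨(inv (jp 1)).hom, congrArg (fun q => q.hom) (IsIso.hom_inv_id (jp 1)),
      congrArg (fun q => q.hom) (IsIso.inv_hom_id (jp 1))⟩
    exact hne (Set.eq_univ_of_univ_subset
      ((isHomeomorph_map_of_isIso (jp 1).hom).surjective.range_eq ▸ hall n 1 le_rfl (by omega)))
  obtain ⟨Vp, f, -, -, hfe, hfs, hiso⟩ := hV p hp1
  have hA : IsoOver (f ≫ (jp p).hom) (Set.range (Points.map j.hom)) := by
    refine isoOver_mono (isoOver_stratum (hjp p) (hred p).1 (hred p).2.1 hiso) ?_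
    rintro _ ⟨_, ⟨x, rfl⟩, rfl⟩
    refine hpA ⟨x, ?_⟩
    rw [← Points.map_comp]
    exact congrArg (fun q : Uo (p + 1) ⟶ X => Points.map q.hom x) (hkj p).symm
  obtain ⟨_, ⟨y, rfl⟩, hy⟩ := Set.not_subset.1 hpne
  obtain ⟨v, rfl⟩ := ofPt_surjective hfs y
  obtain ⟨O, hO, hvO, -⟩ := exists_isAffineOpen_mem_and_subset (X := Vp.left) (x := v) (U := ⊤) trivial
  let VO : Over S := Over.mk (O.ι ≫ Vp.hom)
  let o : VO ⟶ Vp := Over.homMk O.ι rfl
  have : IsOpenImmersion o.left := inferInstanceAs (IsOpenImmersion O.ι)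
  have hAO := isoOver_restrict hX hA o
  have heO : RepWith @Etale ((yon S).map o ≫ f ≫ (jp p).hom) :=
    repWith_comp ((repWith_yon_iff o).2 (inferInstanceAs (Etale O.ι)))
      (repWith_comp hfe (repWith_etale_of_open (hjp p)))
  -- an affine chart of the open
  have hNs := noetherianSpace_points hX hqc hN
  have hUc : IsQuasiCompactSp U.obj :=
    (isQuasiCompactSp_iff_compact U.property hX hj).2 (TopologicalSpace.NoetherianSpace.isCompact _)
  have := compactSpace_of_isQuasiCompactSp hUc
  obtain ⟨U', π, hU', hπe, hπs⟩ := exists_affine_chart_of_compact U.property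
  -- their disjoint union
  let Vs : ULift.{u} Bool → Over S := fun b => match b with | ⟨true⟩ => VO | ⟨false⟩ => U'
  have hVs : ∀ b, IsAffine (Vs b).left := fun b => match b with | ⟨true⟩ => hO | ⟨false⟩ => hU'
  let gs : ∀ b, (yon S).obj (Vs b) ⟶ X.obj :=
    fun b => match b with | ⟨true⟩ => (yon S).map o ≫ f ≫ (jp p).hom | ⟨false⟩ => π ≫ j.hom
  obtain ⟨L, hL⟩ := exists_sigma_hom (F := X.obj) (Z := fun b => (Vs b).left) (fun b => (Vs b).hom) gs
  let V : Over S := Over.mk (Sigma.desc fun b => (Vs b).hom)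
  have : IsAffine V.left := inferInstanceAs (IsAffine (∐ fun b => (Vs b).left))
  let ι : ∀ b, Vs b ⟶ V := fun b => Over.homMk (Sigma.ι (fun b => (Vs b).left) b) (Sigma.ι_desc _ b)
  have hι : ∀ b, (yon S).map (ι b) ≫ L = gs b := hL
  have key : ∀ b z, Points.ofPt (gs b) z = Points.ofPt L ((ι b).left z) := fun b z => by rw [← hι b, ofPt_comp]
  have hLe : RepWith @Etale L := HenselChart.repWith_etale_sigma hX _ L fun b => by
    show RepWith @Etale ((yon S).map (ι b) ≫ L)
    rw [hι]
    rcases b with ⟨⟨⟩⟩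
    · exact repWith_comp hπe (repWith_etale_of_open hj)
    · exact heO
  have hιo : ∀ b, IsOpenImmersion (ι b).left := fun b =>
    inferInstanceAs (IsOpenImmersion (Sigma.ι (fun b => (Vs b).left) b))
  have hout : ∀ w : ↥V.left, Points.ofPt L w ∉ Set.range (Points.map j.hom) → w ∈ Set.range (ι ⟨true⟩).left := by
    intro w hw
    obtain ⟨b, z, hz⟩ := (sigmaOpenCover fun b => (Vs b).left).exists_eq w
    rcases b with ⟨⟨⟩⟩
    · exact absurd ⟨Points.ofPt π z,
        ((Points.map_ofPt π j.hom z).trans (key ⟨false⟩ z)).trans (congrArg (Points.ofPt L) hz)⟩ hw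
    · exact ⟨z, hz⟩
  have hiL : IsoOver L (Set.range (Points.map j.hom)) := by
    have := hιo ⟨true⟩
    exact isoOver_extend hX (ι ⟨true⟩) ((hι ⟨true⟩).symm ▸ hAO) hout
  have ho : IsOpen (Set.range (Points.map j.hom) ∪ Set.range (Points.ofPt L)) :=
    (isOpen_range_of_open U.property hX hj).union (isOpenMap_ofPt (repWith_universallyOpen_of_etale hLe)).isOpen_range
  let W : Space S := ⟨subSheaf _, isAlgSpace_subSheaf hX ho⟩
  let jW : W ⟶ X := ObjectProperty.homMk (subInc _)
  obtain ⟨jU, φ, hk, hφ, hsq⟩ := exists_elemDistSq (j₂ := jW) hj (repWith_subInc ho) hLe (range_subInc _) hiL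
  have sq := IsPullback.of_hasPullback jU.hom φ.hom
  let P : Space S := ⟨pullback jU.hom φ.hom,
    isAlgSpace_of_isPullback_space W.property U.property (IsAlgSpace.yon_obj V) sq⟩
  refine ⟨V, ‹_›, W, jW, jU, φ, P, ObjectProperty.homMk (pullback.fst jU.hom φ.hom),
    ObjectProperty.homMk (pullback.snd jU.hom φ.hom), ?_, repWith_subInc ho, hk, ?_, ?_, hsq, sq, ?_⟩
  · show RepWith @Etale (φ.hom ≫ jW.hom)
    rw [hφ]
    exact hLe
  · show Set.range (Points.map (subInc _)) = _ ∪ Set.range (Points.map (φ.hom ≫ jW.hom))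
    rw [range_subInc, hφ, range_map_chart]
  · intro e
    apply hy
    rw [← e]
    show _ ∈ Set.range (Points.map (subInc _))
    rw [range_subInc]
    refine Or.inr ⟨(ι ⟨true⟩).left ⟨v, hvO⟩, ?_⟩
    rw [← key, Points.map_ofPt]
    show Points.ofPt ((yon S).map o ≫ f ≫ (jp p).hom) _ = _
    rw [ofPt_comp]
    rfl
  · refine Function.Surjective.denseRange fun x => ?_
    obtain ⟨z, rfl⟩ := ofPt_surjective hπs x
    obtain ⟨w, hw, -⟩ := exists_point_of_isPullback sq (Points.ofPt π z) (Points.ofScheme V ((ι ⟨false⟩).left z)) (by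
      apply (isEmbedding_of_open hX (repWith_subInc ho)).injective
      rw [← Points.map_comp, ← Points.map_comp, show jU.hom ≫ subInc _ = j.hom from congrArg (fun q => q.hom) hk,
        show φ.hom ≫ subInc _ = L from hφ, ← Points.ofPt_eq_map_ofScheme, ← key, Points.map_ofPt])
    exact ⟨w, hw⟩

end Groth.Agent.ElemSq
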