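import Groth.Agent.ElemSq.Induct
import Groth.Agent.ColimEtale.Main

/-!
# The induction principle for a family of spaces etale over a space
-/

set_option autoImplicit false
universe u

open CategoryTheory CategoryTheory.Limits AlgebraicGeometry

set_option backward.isDefEq.respectTransparency false

namespace Groth.Agent.ElemSq

open _root_.AlgSp Groth.Agent.AlgSpLib

variable {S : Scheme.{u}} {X : Space S}

/-- an object of the etale site of spaces from an etale map -/
abbrev etObj (U : Space S) (a : U ⟶ X) (ha : IsEtaleMor a.hom) : EtSpOver X := ⟨Over.mk a, ha⟩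

/-- a map of objects of the etale site of spaces -/
abbrev etHom {U U' : Space S} {a : U ⟶ X} {ha : IsEtaleMor a.hom} {a' : U' ⟶ X} {ha' : IsEtaleMor a'.hom}
    (g : U ⟶ U') (h : g ≫ a' = a) : etObj U a ha ⟶ etObj U' a' ha' :=
  ObjectProperty.homMk (Over.homMk g h)

/-- the open piece of a scheme over the base -/
abbrev piece (T : Over S) (O : T.left.Opens) : Over S := Over.mk (O.ι ≫ T.hom)

/-- the inclusion of an open piece -/
abbrev pieceι (T : Over S) (O : T.left.Opens) : piece T O ⟶ T := Over.homMk O.ι rfl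

/-- the inclusion of open pieces -/
noncomputable abbrev pieceLE (T : Over S) {O O' : T.left.Opens} (h : O ≤ O') : piece T O ⟶ piece T O' :=
  Over.homMk (T.left.homOfLE h) (Scheme.homOfLE_ι_assoc _ h _)

theorem range_ofPt_yon {T T' : Over S} (o : T ⟶ T') :
    Set.range (Points.ofPt ((yon S).map o)) = Points.ofScheme T' '' Set.range o.left := by
  rw [← Category.comp_id ((yon S).map o), ofPt_chart_comp]

theorem range_map_yon {T T' : Over S} (o : T ⟶ T') :
    Set.range (Points.map ((yon S).map o)) = Points.ofScheme T' '' Set.range o.left := by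
  rw [← range_ofPt_yon]
  ext x
  constructor
  · rintro ⟨y, rfl⟩
    obtain ⟨v, rfl⟩ := (Points.schemeEquiv T).surjective y
    exact ⟨v, by
      show _ = Points.map ((yon S).map o) (Points.ofPt (𝟙 _) v)
      rw [Points.map_ofPt, Category.id_comp]⟩
  · rintro ⟨v, rfl⟩
    exact ⟨Points.ofScheme T v, by
      show Points.map ((yon S).map o) (Points.ofPt (𝟙 _) v) = _
      rw [Points.map_ofPt, Category.id_comp]⟩

/-- the property holds on unions of finitely many basic opens of an affine object -/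
theorem family_quasiAffine [QuasiSeparatedSpace ↥S] (B P : EtSpOver X → Prop)
    (h2 : ∀ (W U : EtSpOver X) (j : U ⟶ W), B W → RepWith @IsOpenImmersion j.hom.left.hom →
      IsQuasiCompactSp U.obj.left.obj → B U)
    (h3 : ∀ (V : EtSpOver X) (T : Over S), IsAffine T.left → Nonempty ((yon S).obj T ≅ V.obj.left.obj) → B V ∧ P V)
    (h4 : ∀ (W U V UV : EtSpOver X) (j : U ⟶ W) (f : V ⟶ W) (p : UV ⟶ U) (q : UV ⟶ V),
      B W → IsQuasiCompactSp U.obj.left.obj →
      (∃ T : Over S, IsAffine T.left ∧ Nonempty ((yon S).obj T ≅ V.obj.left.obj)) →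
      IsElemDistSq j.hom.left.hom f.hom.left.hom →
      IsPullback p.hom.left.hom q.hom.left.hom j.hom.left.hom f.hom.left.hom →
      P U → P V → P UV → P W)
    (T : Over S) [IsAffine T.left] :
    ∀ (n : ℕ) (r : Fin n → Γ(T.left, ⊤)) (O : T.left.Opens), O = ⨆ i, T.left.basicOpen (r i) →
      ∀ (a : (ofScheme S).obj T ⟶ X) (ha : IsEtaleMor a.hom)
        (h : IsEtaleMor ((ofScheme S).map (pieceι T O) ≫ a).hom),
        P (etObj ((ofScheme S).obj (piece T O)) ((ofScheme S).map (pieceι T O) ≫ a) h) := by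
  intro n
  induction n with
  | zero =>
    intro r O hO a ha h
    have : IsEmpty ↥(piece T O).left := by
      rw [iSup_of_empty] at hO
      subst hO
      exact ⟨fun x => x.2⟩
    have : IsAffine (piece T O).left := inferInstance
    exact (h3 _ _ this ⟨Iso.refl _⟩).2
  | succ n ih =>
    intro r O hO a ha h
    let O₁ : T.left.Opens := ⨆ i : Fin n, T.left.basicOpen (r i.castSucc)
    let D : T.left.Opens := T.left.basicOpen (r (Fin.last n))
    have hsup : O = O₁ ⊔ D := by
      rw [hO]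
      refine le_antisymm (iSup_le fun i => ?_) (sup_le (iSup_le fun i => le_iSup_of_le i.castSucc le_rfl)
        (le_iSup (fun i => T.left.basicOpen (r i)) (Fin.last n)))
      refine Fin.lastCases ?_ (fun i => ?_) i
      · exact le_sup_right
      · exact (le_iSup (fun j : Fin n => T.left.basicOpen (r j.castSucc)) i).trans le_sup_left
    have h₁O : O₁ ≤ O := hsup ▸ le_sup_left
    have hDO : D ≤ O := hsup ▸ le_sup_right
    have het : ∀ O' : T.left.Opens, IsEtaleMor ((ofScheme S).map (pieceι T O') ≫ a).hom := fun O' =>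
      ColimEtale.isEtaleMor_trans ((isEtaleMor_yon_map_iff (pieceι T O')).2 (inferInstanceAs (Etale O'.ι))) ha
    let E : T.left.Opens → EtSpOver X := fun O' =>
      etObj ((ofScheme S).obj (piece T O')) ((ofScheme S).map (pieceι T O') ≫ a) (het O')
    let le : ∀ {O' O'' : T.left.Opens}, O' ≤ O'' → (E O' ⟶ E O'') := fun {O' O''} hle =>
      etHom ((ofScheme S).map (pieceLE T hle)) (by
        rw [← Category.assoc, ← Functor.map_comp]
        congr 2
        exact Over.OverMorphism.ext (Scheme.homOfLE_ι _ hle))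
    have hcomp : ∀ {m : ℕ} (g : Fin m → Γ(T.left, ⊤)), CompactSpace ↥(piece T (⨆ i, T.left.basicOpen (g i))).left :=
      fun g => isCompact_iff_compactSpace.1 (by
        rw [TopologicalSpace.Opens.coe_iSup]
        exact isCompact_iUnion fun i => ((isAffineOpen_top T.left).basicOpen (g i)).isCompact)
    have hB : ∀ {m : ℕ} (g : Fin m → Γ(T.left, ⊤)), B (E (⨆ i, T.left.basicOpen (g i))) := fun g => by
      haveI := hcomp g
      exact h2 (etObj ((ofScheme S).obj T) a ha) _ (etHom ((ofScheme S).map (pieceι T _)) rfl)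
        (h3 _ T ‹_› ⟨Iso.refl _⟩).1 ((repWith_yon_iff _).2 (inferInstanceAs (IsOpenImmersion (Scheme.Opens.ι _))))
        (isQuasiCompactSp_yon _)
    have hD : IsAffine (piece T D).left := (isAffineOpen_top T.left).basicOpen _
    have hEmb : Topology.IsEmbedding (Points.ofScheme (piece T O)) := (Points.schemeHomeo (piece T O)).isEmbedding
    obtain ⟨k, f, hk, hf, hsq⟩ := exists_elemDistSq (X := (ofScheme S).obj (piece T O))
      (j₁ := (ofScheme S).map (pieceLE T h₁O)) (j₂ := 𝟙 _)
      ((repWith_yon_iff _).2 (inferInstanceAs (IsOpenImmersion (T.left.homOfLE h₁O)))) (repWith_of_isIso _)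
      (g := (yon S).map (pieceLE T hDO))
      ((repWith_yon_iff _).2 (inferInstanceAs (Etale (T.left.homOfLE hDO))))
      (by
        refine (Set.range_eq_univ.2 fun x => ⟨x, Points.map_id x⟩).trans (Set.eq_univ_of_forall fun x => ?_).symm
        obtain ⟨v, rfl⟩ := (Points.schemeEquiv (piece T O)).surjective x
        have hv : (v.1 : ↥T.left) ∈ O₁ ⊔ D := hsup ▸ v.2
        rcases hv with hv | hv
        · exact Or.inl ((range_map_yon (pieceLE T h₁O)).symm ▸ ⟨v, ⟨⟨v.1, hv⟩, Subtype.ext (Scheme.homOfLE_apply h₁O _)⟩, rfl⟩)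
        · exact Or.inr ((range_ofPt_yon (pieceLE T hDO)).symm ▸ ⟨v, ⟨⟨v.1, hv⟩, Subtype.ext (Scheme.homOfLE_apply hDO _)⟩, rfl⟩))
      (isoOver_of_mono (IsAlgSpace.yon_obj _)
        ((repWith_yon_iff _).2 (inferInstanceAs (IsOpenImmersion (T.left.homOfLE hDO)))) _)
    rw [Category.comp_id] at hk
    subst hk
    rw [show f.hom = (yon S).map (pieceLE T hDO) from (Category.comp_id _).symm.trans hf] at hsq
    have hinf : O₁ ⊓ D = ⨆ i : Fin n, T.left.basicOpen (r i.castSucc * r (Fin.last n)) := by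
      simp only [O₁, D, iSup_inf_eq, Scheme.basicOpen_mul]
    refine h4 (E O) (E O₁) (E D) (E (O₁ ⊓ D)) (le h₁O) (le hDO) (le inf_le_left) (le inf_le_right)
      ?_ ?_ ⟨_, hD, ⟨Iso.refl _⟩⟩ hsq ?_ (ih _ O₁ rfl a ha _) (h3 _ _ hD ⟨Iso.refl _⟩).2 (ih _ _ hinf a ha _)
    · exact hO ▸ hB r
    · haveI : CompactSpace ↥(piece T O₁).left := hcomp fun i : Fin n => r i.castSucc
      exact isQuasiCompactSp_yon _
    · exact isPullback_yon_iff.2 (isPullback_opens_inf_le h₁O hDO)

/-- the induction principle -/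
theorem induct_family [QuasiSeparatedSpace ↥S] (B P : EtSpOver X → Prop)
    (h1 : ∀ W, B W → IsQuasiCompactSp W.obj.left.obj ∧ IsQuasiSeparatedSp W.obj.left.obj)
    (h2 : ∀ (W U : EtSpOver X) (j : U ⟶ W), B W → RepWith @IsOpenImmersion j.hom.left.hom →
      IsQuasiCompactSp U.obj.left.obj → B U)
    (h3 : ∀ (V : EtSpOver X) (T : Over S), IsAffine T.left → Nonempty ((yon S).obj T ≅ V.obj.left.obj) → B V ∧ P V)
    (h4 : ∀ (W U V UV : EtSpOver X) (j : U ⟶ W) (f : V ⟶ W) (p : UV ⟶ U) (q : UV ⟶ V),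
      B W → IsQuasiCompactSp U.obj.left.obj →
      (∃ T : Over S, IsAffine T.left ∧ Nonempty ((yon S).obj T ≅ V.obj.left.obj)) →
      IsElemDistSq j.hom.left.hom f.hom.left.hom →
      IsPullback p.hom.left.hom q.hom.left.hom j.hom.left.hom f.hom.left.hom →
      P U → P V → P UV → P W)
    (E : EtSpOver X) (hE : B E) : P E := by
  classical
  have hEX := E.obj.left.property
  obtain ⟨hEc, hEs⟩ := h1 E hE
  let P' : ∀ U : Space S, (U ⟶ E.obj.left) → Prop := fun U j =>
    ∀ h : IsEtaleMor (j ≫ E.obj.hom).hom, P (etObj U (j ≫ E.obj.hom) h)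
  have het : ∀ (U : Space S) (j : U ⟶ E.obj.left), RepWith @IsOpenImmersion j.hom →
      IsEtaleMor (j ≫ E.obj.hom).hom := fun U j hj =>
    ColimEtale.isEtaleMor_trans (isEtaleMor_of_repWith' (repWith_etale_of_open hj)) E.property
  suffices hfin : P' E.obj.left (𝟙 _) by
    have h := hfin (het _ _ (repWith_of_isIso _))
    simp only [Category.id_comp] at h
    exact h
  let W₀ : Space S := ⟨subSheaf ∅, isAlgSpace_subSheaf hEX isOpen_empty⟩
  let j₀ : W₀ ⟶ E.obj.left := ObjectProperty.homMk (subInc _)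
  refine induct_space E.obj.left hEc hEs P' W₀ j₀ (repWith_subInc isOpen_empty)
    (isQuasiCompactSp_subSheaf hEX isOpen_empty isCompact_empty) (fun h => ?_) ?_
  · let V₀ : Over S := Over.mk (Limits.initial.to S)
    have : IsAffine V₀.left := inferInstanceAs (IsAffine (⊥_ Scheme.{u}))
    have : IsEmpty ↥V₀.left := inferInstanceAs (IsEmpty ↥(⊥_ Scheme.{u}))
    have hV₀ : IsEmpty (Points ((yon S).obj V₀)) := (Points.schemeEquiv V₀).symm.isEmpty
    have hW₀ : IsEmpty (Points W₀.obj) := ⟨fun x => map_subInc_mem (W := ∅) x⟩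
    have hcov : IsFppfCover (fun e : PEmpty.{u + 1} => (e.elim : Sp S))
        (fun e => (e.elim : e.elim ⟶ (yon S).obj V₀)) := ⟨fun e => e.elim, fun x => hV₀.elim x⟩
    obtain ⟨g, -⟩ := exists_desc_of_fppfCover (Z := W₀.obj) (IsAlgSpace.yon_obj V₀) (fun e => e.elim) hcov
      (fun e => e.elim) (fun e => e.elim)
    haveI : IsIso g := isIso_of_isEmpty (IsAlgSpace.yon_obj V₀) W₀.property g
    exact (h3 _ V₀ ‹_› ⟨asIso g⟩).2
  · intro W₁ W₂ V j₁ j₂ k m f hV hj₁ hj₂ hk _ hc₁ hc₂ hsq hP h
    have hW₂B : B (etObj W₂ (j₂ ≫ E.obj.hom) h) := h2 E _ (etHom j₂ rfl) hE hj₂ hc₂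
    have hfe : IsEtaleMor (f ≫ j₂ ≫ E.obj.hom).hom := ColimEtale.isEtaleMor_trans hsq.2.1 h
    -- the fibre product is a quasi-affine piece of the chart
    have sq := IsPullback.of_hasPullback k.hom f.hom
    have hUV := isAlgSpace_of_isPullback_space W₂.property W₁.property (IsAlgSpace.yon_obj V) sq
    have hq : RepWith @IsOpenImmersion (pullback.snd k.hom f.hom) := repWith_baseChange sq hsq.1
    have hqc : IsQuasiCompactSp (pullback k.hom f.hom) := by
      have : CompactSpace ↥V.left := inferInstance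
      exact SpQS.isQuasiCompactMor_of_qc_qs W₁.property W₂.property k.hom hc₁
        (isQuasiSeparatedSp_of_open hj₂ hEs) (IsAlgSpace.yon_obj V) (isQuasiCompactSp_yon V) f.hom _ _ sq
    let O : V.left.Opens := ⟨(Points.schemeHomeo V) ⁻¹' Set.range (Points.map (pullback.snd k.hom f.hom)),
      (isOpen_range_of_open hUV (IsAlgSpace.yon_obj V) hq).preimage (Points.schemeHomeo V).continuous⟩
    have hOc : IsCompact (O : Set ↥V.left) := (Points.schemeHomeo V).isCompact_preimage.2
      ((isQuasiCompactSp_iff_compact hUV (IsAlgSpace.yon_obj V) hq).1 hqc)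
    obtain ⟨n, r, hr⟩ : ∃ (n : ℕ) (r : Fin n → Γ(V.left, ⊤)), O = ⨆ i, V.left.basicOpen (r i) := by
      obtain ⟨s, hs⟩ := hOc.elim_finite_subcover
        (fun g : {g : Γ(V.left, ⊤) // V.left.basicOpen g ≤ O} => (V.left.basicOpen g.1 : Set ↥V.left))
        (fun g => (V.left.basicOpen g.1).isOpen) (fun x hx => by
          obtain ⟨_, ⟨g, rfl⟩, hxg, hgO⟩ :=
            TopologicalSpace.Opens.isBasis_iff_nbhd.1 (isBasis_basicOpen V.left) (U := O) hx
          exact Set.mem_iUnion.2 ⟨⟨g, hgO⟩, hxg⟩)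
      refine ⟨s.card, fun i => (s.equivFin.symm i).1.1, le_antisymm (fun x hx => ?_) (iSup_le fun i => (s.equivFin.symm i).1.2)⟩
      obtain ⟨g, hg, hxg⟩ := Set.mem_iUnion₂.1 (hs hx)
      refine TopologicalSpace.Opens.mem_iSup.2 ⟨s.equivFin ⟨g, hg⟩, ?_⟩
      simpa using hxg
    have hι : RepWith @IsOpenImmersion ((yon S).map (pieceι V O)) :=
      (repWith_yon_iff _).2 (inferInstanceAs (IsOpenImmersion O.ι))
    have hrange : Set.range (Points.map ((yon S).map (pieceι V O))) =
        Set.range (Points.map (pullback.snd k.hom f.hom)) := by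
      rw [range_map_yon, show Set.range (pieceι V O).left = (O : Set ↥V.left) from O.range_ι]
      show Points.schemeHomeo V '' ((Points.schemeHomeo V) ⁻¹' Set.range (Points.map (pullback.snd k.hom f.hom))) = _
      exact Set.image_preimage_eq _ (Points.schemeHomeo V).surjective
    obtain ⟨e, he⟩ := (exists_factor_iff hUV (IsAlgSpace.yon_obj V) _ hq ((yon S).map (pieceι V O))).2 hrange.le
    obtain ⟨e', he'⟩ := (exists_factor_iff (IsAlgSpace.yon_obj (piece V O)) (IsAlgSpace.yon_obj V) _ hι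
      (pullback.snd k.hom f.hom)).2 hrange.ge
    have hm₁ := mono_of_open hq
    have hm₂ := mono_of_open hι
    let ei : (yon S).obj (piece V O) ≅ pullback k.hom f.hom :=
      { hom := e
        inv := e'
        hom_inv_id := by rw [← cancel_mono ((yon S).map (pieceι V O)), Category.assoc, he', he, Category.id_comp]
        inv_hom_id := by rw [← cancel_mono (pullback.snd k.hom f.hom), Category.assoc, he, he', Category.id_comp] }
    have sq' : IsPullback (e ≫ pullback.fst k.hom f.hom) ((yon S).map (pieceι V O)) k.hom f.hom :=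
      sq.of_iso ei.symm (Iso.refl _) (Iso.refl _) (Iso.refl _) (by simp [ei, ← Category.assoc, show e' ≫ e = 𝟙 _ from ei.inv_hom_id]) (by simp [ei, he']) (by simp) (by simp)
    have hOe : IsEtaleMor ((ofScheme S).map (pieceι V O) ≫ f ≫ j₂ ≫ E.obj.hom).hom :=
      ColimEtale.isEtaleMor_trans (isEtaleMor_of_repWith' (repWith_etale_of_open hι)) hfe
    have hUe : IsEtaleMor (j₁ ≫ E.obj.hom).hom := het _ _ hj₁
    refine h4 (etObj W₂ (j₂ ≫ E.obj.hom) h) (etObj W₁ (j₁ ≫ E.obj.hom) hUe)
      (etObj ((ofScheme S).obj V) (f ≫ j₂ ≫ E.obj.hom) hfe)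
      (etObj ((ofScheme S).obj (piece V O)) _ hOe)
      (etHom k (by rw [← Category.assoc, hk])) (etHom f rfl)
      (etHom (ObjectProperty.homMk (e ≫ pullback.fst k.hom f.hom)) ?_)
      (etHom ((ofScheme S).map (pieceι V O)) rfl) hW₂B hc₁ ⟨V, hV, ⟨Iso.refl _⟩⟩ hsq sq'
      (hP hUe) (h3 _ V hV ⟨Iso.refl _⟩).2 (family_quasiAffine B P h2 h3 h4 V n r O hr _ hfe hOe)
    rw [← hk, Category.assoc, ← Category.assoc, ← Category.assoc ((ofScheme S).map (pieceι V O))]
    congr 1
    exact ObjectProperty.hom_ext _ sq'.w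

end Groth.Agent.ElemSq
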