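import Groth.Agent.ElemSq.Step
import Groth.Agent.S10419

/-!
# The induction principle by elementary distinguished squares
-/

set_option autoImplicit false
universe u

open CategoryTheory CategoryTheory.Limits AlgebraicGeometry

set_option backward.isDefEq.respectTransparency false

namespace Groth.Agent.ElemSq

open _root_.AlgSp Groth.Agent.AlgSpLib

variable {S : Scheme.{u}}

theorem isQuasiCompactSp_subSheaf {F : Sp S} (hF : IsAlgSpace F) {W : Set (Points F)} (hW : IsOpen W)
    (hc : IsCompact W) : IsQuasiCompactSp (subSheaf W) :=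
  (isQuasiCompactSp_iff_compact (isAlgSpace_subSheaf hF hW) hF (repWith_subInc hW)).2 (by rwa [range_subInc])

theorem ofPt_chart_comp {X : Sp S} {V V' : Over S} (o : V' ⟶ V) (g : (yon S).obj V ⟶ X) :
    Set.range (Points.ofPt ((yon S).map o ≫ g)) = Points.ofPt g '' Set.range o.left := by
  rw [← Set.range_comp]
  exact congrArg Set.range (funext fun v => ofPt_comp _ _ _)

/-- A property passed on along elementary distinguished squares with affine chart reaches the whole space. -/
theorem induct_space [QuasiSeparatedSpace ↥S] (X : Space S)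
    (hXc : IsQuasiCompactSp X.obj) (hXs : IsQuasiSeparatedSp X.obj)
    (P : ∀ U : Space S, (U ⟶ X) → Prop)
    (W : Space S) (jW : W ⟶ X) (hjW : RepWith @IsOpenImmersion jW.hom)
    (hWc : IsQuasiCompactSp W.obj) (h1 : P W jW)
    (h2 : ∀ (W₁ W₂ : Space S) (V : Over S) (j₁ : W₁ ⟶ X) (j₂ : W₂ ⟶ X) (k : W₁ ⟶ W₂) (m : W ⟶ W₁)
      (f : (ofScheme S).obj V ⟶ W₂), IsAffine V.left →
      RepWith @IsOpenImmersion j₁.hom → RepWith @IsOpenImmersion j₂.hom → k ≫ j₂ = j₁ → m ≫ j₁ = jW →
      IsQuasiCompactSp W₁.obj → IsQuasiCompactSp W₂.obj → IsElemDistSq k.hom f.hom → P W₁ j₁ → P W₂ j₂) :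
    P X (𝟙 X) := by
  classical
  have hX := X.property
  obtain ⟨n, Uo, j, k, T, i, hj, hkj, hj1, hempty, hred, hV⟩ := S10419.result X hXc hXs
  let Good : Set (Points X.obj) → Prop := fun E => ∃ (U : Space S) (jU : U ⟶ X) (m : W ⟶ U),
    RepWith @IsOpenImmersion jU.hom ∧ m ≫ jU = jW ∧ IsQuasiCompactSp U.obj ∧
      Set.range (Points.map jU.hom) = E ∧ P U jU
  -- adding the image of an affine chart
  have hadd : ∀ (E : Set (Points X.obj)) (U₂ : Space S) (j₂ : U₂ ⟶ X) (V : Over S) (g : (yon S).obj V ⟶ X.obj),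
      IsAffine V.left → RepWith @Etale g → RepWith @IsOpenImmersion j₂.hom →
      Set.range (Points.map j₂.hom) = E ∪ Set.range (Points.ofPt g) → IsQuasiCompactSp U₂.obj → IsoOver g E →
      Good E → P U₂ j₂ ∧ ∃ m : W ⟶ U₂, m ≫ j₂ = jW := by
    intro E U₂ j₂ V g hV hg h₂ hr hqc hiso ⟨U, jU, m, hjU, hm, hUc, hE, hP⟩
    subst hE
    obtain ⟨k', f, hk, -, hsq⟩ := exists_elemDistSq hjU h₂ hg hr hiso
    exact ⟨h2 U U₂ V jU j₂ k' m f hV hjU h₂ hk hm hUc hqc hsq hP, m ≫ k', by rw [Category.assoc, hk, hm]⟩
  have hstep : ∀ (E : Set (Points X.obj)) (V : Over S) (g : (yon S).obj V ⟶ X.obj), IsAffine V.left →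
      RepWith @Etale g → IsoOver g E → Good E → Good (E ∪ Set.range (Points.ofPt g)) := by
    intro E V g hV hg hiso hgood
    obtain ⟨U, jU, m, hjU, hm, hUc, hE, -⟩ := id hgood
    have ho : IsOpen (E ∪ Set.range (Points.ofPt g)) :=
      (hE ▸ isOpen_range_of_open U.property hX hjU).union
        (isOpenMap_ofPt (repWith_universallyOpen_of_etale hg)).isOpen_range
    have hc : IsCompact (E ∪ Set.range (Points.ofPt g)) := by
      have : CompactSpace ↥V.left := inferInstance
      exact (hE ▸ (isQuasiCompactSp_iff_compact U.property hX hjU).1 hUc).union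
        (isCompact_range (Points.continuous_ofPt g))
    let U₂ : Space S := ⟨subSheaf _, isAlgSpace_subSheaf hX ho⟩
    let j₂ : U₂ ⟶ X := ObjectProperty.homMk (subInc _)
    have hqc : IsQuasiCompactSp U₂.obj := isQuasiCompactSp_subSheaf hX ho hc
    obtain ⟨hP, m', hm'⟩ := hadd E U₂ j₂ V g hV hg (repWith_subInc ho) (range_subInc _) hqc hiso hgood
    exact ⟨U₂, j₂, m', repWith_subInc ho, hm', hqc, range_subInc _, hP⟩
  -- the strata
  have hmain : ∀ d p, 1 ≤ p → p + d = n + 1 →
      Good (Set.range (Points.map jW.hom) ∪ Set.range (Points.map (j p).hom)) := by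
    intro d
    induction d with
    | zero =>
      intro p _ hp
      obtain rfl : p = n + 1 := by omega
      have := hempty
      rw [show Set.range (Points.map (j (n + 1)).hom) = ∅ from Set.range_eq_empty _, Set.union_empty]
      exact ⟨W, jW, 𝟙 W, hjW, Category.id_comp _, hWc, rfl, h1⟩
    | succ d ih =>
      intro p hp hpd
      have hgood := ih (p + 1) (by omega) (by omega)
      obtain ⟨V, f, hVsep, hVc, hfe, hfs, hiso⟩ := hV p hp
      have hg : RepWith @Etale (f ≫ (j p).hom) := repWith_comp hfe (repWith_etale_of_open (hj p))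
      let A := Set.range (Points.map jW.hom) ∪ Set.range (Points.map (j (p + 1)).hom)
      have hA : IsoOver (f ≫ (j p).hom) A := by
        refine isoOver_mono (isoOver_stratum (hj p) (hred p).1 (hred p).2.1 hiso) ?_
        rintro _ ⟨_, ⟨x, rfl⟩, rfl⟩
        refine Or.inr ⟨x, ?_⟩
        rw [← Points.map_comp]
        exact congrArg (fun q : Uo (p + 1) ⟶ X => Points.map q.hom x) (hkj p).symm
      have hall : ∀ s : Finset {O : V.left.Opens // IsAffineOpen O},
          Good (A ∪ ⋃ O ∈ s, Points.ofPt (f ≫ (j p).hom) '' (O.1 : Set ↥V.left)) := by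
        intro s
        induction s using Finset.induction_on with
        | empty => simpa [A] using hgood
        | @insert O s hO ihs =>
          let VO : Over S := Over.mk (O.1.ι ≫ V.hom)
          let o : VO ⟶ V := Over.homMk O.1.ι rfl
          have : IsOpenImmersion o.left := inferInstanceAs (IsOpenImmersion O.1.ι)
          have := hstep _ VO ((yon S).map o ≫ f ≫ (j p).hom) O.2
            (repWith_comp ((repWith_yon_iff o).2 (inferInstanceAs (Etale O.1.ι))) hg)
            (isoOver_mono (isoOver_restrict hX hA o) Set.subset_union_left) ihs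
          rw [ofPt_chart_comp, show Set.range o.left = (O.1 : Set ↥V.left) from O.1.range_ι] at this
          rw [Finset.set_biUnion_insert]
          rwa [Set.union_assoc, Set.union_comm _ (Points.ofPt _ '' _)] at this
      obtain ⟨s, hs⟩ := (isCompact_univ (X := V.left)).elim_finite_subcover
        (fun O : {O : V.left.Opens // IsAffineOpen O} => (O.1 : Set ↥V.left)) (fun O => O.1.isOpen) (fun v _ => by
          obtain ⟨O, hO, hv, -⟩ := exists_isAffineOpen_mem_and_subset (X := V.left) (x := v) (U := ⊤) trivial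
          exact Set.mem_iUnion.2 ⟨⟨O, hO⟩, hv⟩)
      have h := hall s
      have e : A ∪ ⋃ O ∈ s, Points.ofPt (f ≫ (j p).hom) '' (O.1 : Set ↥V.left) =
          Set.range (Points.map jW.hom) ∪ Set.range (Points.map (j p).hom) := by
        have hu : (⋃ O ∈ s, Points.ofPt (f ≫ (j p).hom) '' (O.1 : Set ↥V.left)) =
            Set.range (Points.map (j p).hom) := by
          simp only [← Set.image_iUnion]
          rw [Set.eq_univ_of_univ_subset hs, Set.image_univ]
          ext x
          constructor
          · rintro ⟨v, rfl⟩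
            exact ⟨Points.ofPt f v, Points.map_ofPt _ _ _⟩
          · rintro ⟨y, rfl⟩
            obtain ⟨v, rfl⟩ := ofPt_surjective hfs y
            exact ⟨v, (Points.map_ofPt _ _ _).symm⟩
        rw [hu]
        refine subset_antisymm (Set.union_subset (Set.union_subset Set.subset_union_left ?_) Set.subset_union_right)
          (Set.union_subset (Set.subset_union_left.trans Set.subset_union_left) Set.subset_union_right)
        rintro _ ⟨x, rfl⟩
        exact Or.inr ⟨Points.map (k p).hom x, by
          rw [← Points.map_comp]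
          exact congrArg (fun q : Uo (p + 1) ⟶ X => Points.map q.hom x) (hkj p)⟩
      rwa [e] at h
  have hone := hmain n 1 le_rfl (by omega)
  have : IsIso (j 1).hom := ⟨(inv (j 1)).hom, congrArg (fun q => q.hom) (IsIso.hom_inv_id (j 1)),
    congrArg (fun q => q.hom) (IsIso.inv_hom_id (j 1))⟩
  have huniv : Set.range (Points.map (j 1).hom) = Set.univ := (isHomeomorph_map_of_isIso (j 1).hom).surjective.range_eq
  rw [huniv, Set.union_univ] at hone
  -- a last square with empty chart
  let V₀ : Over S := Over.mk (Limits.initial.to S)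
  have : IsAffine V₀.left := inferInstanceAs (IsAffine (⊥_ Scheme.{u}))
  have : IsEmpty ↥V₀.left := inferInstanceAs (IsEmpty ↥(⊥_ Scheme.{u}))
  obtain ⟨l, hl⟩ : ∃ g : (yon S).obj V₀ ⟶ X.obj, RepWith @Etale g := by
    obtain ⟨U, π, hπ, -⟩ := hX.atlas
    let o : V₀ ⟶ U := Over.homMk (Limits.initial.to U.left) (Limits.initial.hom_ext _ _)
    exact ⟨(yon S).map o ≫ π, repWith_comp ((repWith_yon_iff o).2 (inferInstanceAs (Etale (Limits.initial.to U.left)))) hπ⟩
  have he : Set.range (Points.ofPt l) = ∅ := Set.range_eq_empty _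
  refine (hadd Set.univ X (𝟙 X) V₀ l ‹_› hl (repWith_of_isIso _) ?_ hXc ?_ hone).1
  · rw [he, Set.union_empty]
    exact Set.range_eq_univ.2 fun x => ⟨x, by simp⟩
  · intro R q hR _ hq
    have : IsEmpty (Points R) := ⟨fun r => (hq r).2 trivial⟩
    exact isIso_of_isEmpty (isAlgSpace_of_isPullback_space hX hR (IsAlgSpace.yon_obj V₀)
      (IsPullback.of_hasPullback q l)) hR _

end Groth.Agent.ElemSq
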