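import Groth.Agent.SchImg.Reduced
import Groth.Agent.SpQS.Basic
import Groth.Agent.AlgSpLib.CoverDesc
import Groth.Agent.AlgSpLib.Subspace
import Groth.Agent.AlgSpLib.PointMisc
import Groth.Agent.UnivInjMor.MonoUnram
import Groth.Agent.ValLib.DvrFrom
import Groth.Agent.AlgSpLib.DiagFP
import Groth.Agent.ColimEtale.Sep

/-!
# Building elementary distinguished squares
-/

set_option autoImplicit false
universe u

open CategoryTheory CategoryTheory.Limits AlgebraicGeometry

set_option backward.isDefEq.respectTransparency false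

namespace Groth.Agent.ElemSq

open _root_.AlgSp Groth.Agent.AlgSpLib

variable {S : Scheme.{u}}

theorem repWith_etale_of_open {F G : Sp S} {f : F ⟶ G} (h : RepWith @IsOpenImmersion f) : RepWith @Etale f :=
  repWith_mono (P := @IsOpenImmersion) (Q := @Etale)
    (fun _ _ g hg => have : IsOpenImmersion g := hg; inferInstance) h

theorem mono_of_open {F G : Sp S} {f : F ⟶ G} (h : RepWith @IsOpenImmersion f) : Mono f :=
  mono_of_repWith_immersion (repWith_mono (P := @IsOpenImmersion) (Q := @IsImmersion)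
    (fun _ _ g hg => have : IsOpenImmersion g := hg; inferInstance) h)

theorem isEmbedding_of_open {F G : Sp S} (hG : IsAlgSpace G) {f : F ⟶ G} (h : RepWith @IsOpenImmersion f) :
    Topology.IsEmbedding (Points.map f) :=
  (immersion_topology hG (repWith_mono (P := @IsOpenImmersion) (Q := @IsImmersion)
    (fun _ _ g hg => have : IsOpenImmersion g := hg; inferInstance) h)).1

theorem isOpen_range_of_open {F G : Sp S} (hF : IsAlgSpace F) (hG : IsAlgSpace G) {f : F ⟶ G}
    (h : RepWith @IsOpenImmersion f) : IsOpen (Set.range (Points.map f)) :=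
  haveI := mono_of_open h
  (exists_iso_subSheaf_of_mono hF hG f (isEtaleMor_of_repWith' (repWith_etale_of_open h))).1

theorem isQuasiSeparatedSp_of_open {F G : Sp S} {f : F ⟶ G} (h : RepWith @IsOpenImmersion f)
    (hG : IsQuasiSeparatedSp G) : IsQuasiSeparatedSp F :=
  haveI := mono_of_open h
  isQuasiSeparatedSp_of_mor (ValLib.isQuasiSeparatedMor_of_separated _ (UnivInjMor.isSeparatedMor_of_mono f)) hG

theorem isQuasiSeparatedSp_yon [QuasiSeparatedSpace ↥S] {T : Over S} (hT : IsAffine T.left) :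
    IsQuasiSeparatedSp ((yon S).obj T) :=
  (SpQS.isQuasiSeparatedSp_iff_mor (SpQS.baseStr _)).2
    (ValLib.isQuasiSeparatedMor_of_separated _ (ColimEtale.isSeparatedMor_of_affine_source hT _))

theorem isQuasiCompactSp_iff_compact {F G : Sp S} (hF : IsAlgSpace F) (hG : IsAlgSpace G) {f : F ⟶ G}
    (h : RepWith @IsOpenImmersion f) : IsQuasiCompactSp F ↔ IsCompact (Set.range (Points.map f)) := by
  rw [isQuasiCompactSp_iff hF, ← isCompact_univ_iff, (isEmbedding_of_open hG h).isCompact_iff, Set.image_univ]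

/-- maps into a space without points are isomorphisms -/
theorem isIso_of_isEmpty {P T : Sp S} (hP : IsAlgSpace P) (hT : IsAlgSpace T) (f : P ⟶ T)
    [IsEmpty (Points T)] : IsIso f := by
  have : IsEmpty (Points P) := ⟨fun x => isEmptyElim (Points.map f x)⟩
  have hcov : ∀ {Q : Sp S}, IsAlgSpace Q → IsEmpty (Points Q) →
      IsFppfCover (fun e : PEmpty.{u + 1} => (e.elim : Sp S)) (fun e => (e.elim : e.elim ⟶ Q)) :=
    fun _ hQ => ⟨fun e => e.elim, fun x => hQ.elim x⟩
  obtain ⟨g, -⟩ := exists_desc_of_fppfCover (Z := P) hT (fun e => e.elim) (hcov hT inferInstance)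
    (fun e => e.elim) (fun e => e.elim)
  exact ⟨g, hom_ext_of_fppfCover hP (fun e => e.elim) (hcov hP inferInstance) (fun e => e.elim),
    hom_ext_of_fppfCover hT (fun e => e.elim) (hcov hT inferInstance) (fun e => e.elim)⟩

/-- surjective open immersions are isomorphisms -/
theorem isIso_of_open_surjective {P T : Sp S} (hP : IsAlgSpace P) (hT : IsAlgSpace T) {f : P ⟶ T}
    (hf : RepWith @IsOpenImmersion f) (hs : Function.Surjective (Points.map f)) : IsIso f := by
  have := mono_of_open hf
  obtain ⟨g, hg⟩ := (exists_factor_iff hP hT f hf (𝟙 T)).2 (fun x _ => hs x)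
  exact ⟨g, by rw [← cancel_mono f, Category.assoc, hg, Category.comp_id, Category.id_comp], hg⟩

/-- reduced spaces mapping into the points of the chart outside an open set lift uniquely -/
def IsoOver {X : Sp S} {V : Over S} (g : (yon S).obj V ⟶ X) (A : Set (Points X)) : Prop :=
  ∀ (R : Sp S) (q : R ⟶ X), IsAlgSpace R → IsReducedSp R →
    (∀ r, Points.map q r ∈ Set.range (Points.ofPt g) ∧ Points.map q r ∉ A) → IsIso (pullback.fst q g)

theorem isoOver_mono {X : Sp S} {V : Over S} {g : (yon S).obj V ⟶ X} {A A' : Set (Points X)} (h : IsoOver g A)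
    (hA : A ⊆ A') : IsoOver g A' :=
  fun R q hR hr hq => h R q hR hr fun r => ⟨(hq r).1, fun h' => (hq r).2 (hA h')⟩

/-- restriction of the chart to an open piece -/
theorem isoOver_restrict {X : Sp S} (hX : IsAlgSpace X) {V V' : Over S} {g : (yon S).obj V ⟶ X} {A : Set (Points X)}
    (h : IsoOver g A) (o : V' ⟶ V) [IsOpenImmersion o.left] : IsoOver ((yon S).map o ≫ g) A := by
  intro R q hR hred hq
  have := h R q hR hred fun r => ⟨by
    obtain ⟨v, hv⟩ := (hq r).1
    exact ⟨o.left v, by rw [← ofPt_comp]; exact hv⟩, (hq r).2⟩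
  have sq := IsPullback.of_hasPullback q g
  have sq' := IsPullback.of_hasPullback q ((yon S).map o ≫ g)
  let l : pullback q ((yon S).map o ≫ g) ⟶ pullback q g :=
    pullback.lift (pullback.fst _ _) (pullback.snd _ _ ≫ (yon S).map o)
      (by rw [pullback.condition, Category.assoc])
  have hl : IsPullback (pullback.snd q ((yon S).map o ≫ g)) l ((yon S).map o) (pullback.snd q g) := by
    refine (IsPullback.of_right ?_ (pullback.lift_snd _ _ _) sq).flip
    rw [pullback.lift_fst]
    exact sq'
  have hlo : RepWith @IsOpenImmersion l := repWith_baseChange hl ((repWith_yon_iff o).2 ‹_›)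
  have e : pullback.fst q ((yon S).map o ≫ g) = l ≫ pullback.fst q g := (pullback.lift_fst _ _ _).symm
  have hP := isAlgSpace_of_isPullback_space hX hR (IsAlgSpace.yon_obj V') sq'
  refine isIso_of_open_surjective hP hR (by
    rw [e]
    exact (repWith_comp_iso_iff _ _).2 hlo) fun r => ?_
  obtain ⟨v, hv⟩ := (hq r).1
  obtain ⟨p, hp, -⟩ := exists_point_of_isPullback sq' r (Points.ofScheme V' v)
    (by rw [← hv, Points.map_ofPt, Category.id_comp])
  exact ⟨p, hp⟩

/-- open immersions of schemes -/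
theorem isoOver_of_mono {X : Sp S} (hX : IsAlgSpace X) {V : Over S} {g : (yon S).obj V ⟶ X}
    (hg : RepWith @IsOpenImmersion g) (A : Set (Points X)) : IsoOver g A := by
  intro R q hR _ hq
  have sq := IsPullback.of_hasPullback q g
  refine isIso_of_open_surjective (isAlgSpace_of_isPullback_space hX hR (IsAlgSpace.yon_obj V) sq) hR
    (repWith_baseChange sq.flip hg) fun r => ?_
  obtain ⟨v, hv⟩ := (hq r).1
  obtain ⟨p, hp, -⟩ := exists_point_of_isPullback sq r (Points.ofScheme V v)
    (by rw [← hv, Points.map_ofPt, Category.id_comp])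
  exact ⟨p, hp⟩

/-- a chart which is an isomorphism over the new points gives an elementary distinguished square -/
theorem exists_elemDistSq {X U₁ U₂ : Space S} {j₁ : U₁ ⟶ X} {j₂ : U₂ ⟶ X} (h₁ : RepWith @IsOpenImmersion j₁.hom)
    (h₂ : RepWith @IsOpenImmersion j₂.hom) {V : Over S} {g : (yon S).obj V ⟶ X.obj} (hg : RepWith @Etale g)
    (hr : Set.range (Points.map j₂.hom) = Set.range (Points.map j₁.hom) ∪ Set.range (Points.ofPt g))
    (hiso : IsoOver g (Set.range (Points.map j₁.hom))) :
    ∃ (k : U₁ ⟶ U₂) (f : (ofScheme S).obj V ⟶ U₂), k ≫ j₂ = j₁ ∧ f.hom ≫ j₂.hom = g ∧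
      IsElemDistSq k.hom f.hom := by
  have hX := X.property
  have := mono_of_open h₂
  obtain ⟨k, hk⟩ := (exists_factor_iff U₂.property hX j₂.hom h₂ j₁.hom).2 (by
    rw [hr]
    exact Set.subset_union_left)
  obtain ⟨f, hf⟩ := (exists_factor_iff U₂.property hX j₂.hom h₂ g).2 (by
    rintro _ ⟨x, rfl⟩
    obtain ⟨v, rfl⟩ := (Points.schemeEquiv V).surjective x
    rw [hr]
    exact Or.inr ⟨v, by
      show _ = Points.map g (Points.ofPt (𝟙 _) v)
      rw [Points.map_ofPt, Category.id_comp]⟩)
  have hko : RepWith @IsOpenImmersion k := repWith_baseChange (fst := 𝟙 U₁.obj) (f := j₁.hom) (g := j₂.hom)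
    ⟨⟨by rw [Category.id_comp, hk]⟩, ⟨PullbackCone.IsLimit.mk _ (fun t => t.fst) (fun t => Category.comp_id _)
      (fun t => (cancel_mono j₂.hom).1 (by rw [Category.assoc, hk, t.condition]))
      (fun t m e _ => (Category.comp_id m).symm.trans e)⟩⟩ h₁
  have hfe : IsEtaleMor f := isEtaleMor_of_comp U₂.property hX (by rw [hf]; exact isEtaleMor_of_repWith' hg)
    (isEtaleMor_of_repWith' (repWith_etale_of_open h₂))
  refine ⟨ObjectProperty.homMk k, ObjectProperty.homMk f, ObjectProperty.hom_ext _ hk, hf, hko, hfe, ?_⟩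
  obtain ⟨T, i, hT, hi⟩ := SpQS.exists_redInduced U₂.property
    (T := (Set.range (Points.map k))ᶜ) (isOpen_range_of_open U₁.property U₂.property hko).isClosed_compl
  have hq : ∀ r, Points.map (i ≫ j₂.hom) r ∈ Set.range (Points.ofPt g) ∧
      Points.map (i ≫ j₂.hom) r ∉ Set.range (Points.map j₁.hom) := fun r => by
    have hr' : Points.map i r ∈ (Set.range (Points.map k))ᶜ := hi.2.1 ▸ ⟨r, rfl⟩
    have hn : Points.map (i ≫ j₂.hom) r ∉ Set.range (Points.map j₁.hom) := by
      rintro ⟨u, hu⟩
      rw [← hk, Points.map_comp, Points.map_comp] at hu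
      exact hr' ⟨u, (isEmbedding_of_open hX h₂).injective hu⟩
    refine ⟨?_, hn⟩
    have : Points.map (i ≫ j₂.hom) r ∈ Set.range (Points.map j₂.hom) :=
      ⟨Points.map i r, (Points.map_comp _ _ r).symm⟩
    rw [hr] at this
    exact this.resolve_left hn
  have := hiso T (i ≫ j₂.hom) hT hi.2.2 hq
  refine ⟨T, pullback (i ≫ j₂.hom) g, i, pullback.fst _ _, pullback.snd _ _, hi,
    ⟨⟨(cancel_mono j₂.hom).1 ((Category.assoc _ _ _).trans
        ((pullback.condition.trans (congrArg (fun z => pullback.snd (i ≫ j₂.hom) g ≫ z) hf).symm).trans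
          (Category.assoc _ _ _).symm))⟩,
      ⟨PullbackCone.IsLimit.mk _
        (fun t => pullback.lift t.fst t.snd
          ((Category.assoc _ _ _).symm.trans ((congrArg (· ≫ j₂.hom) t.condition).trans
            ((Category.assoc _ _ _).trans (congrArg (fun z => t.snd ≫ z) hf)))))
        (fun t => pullback.lift_fst _ _ _) (fun t => pullback.lift_snd _ _ _)
        (fun t m e₁ e₂ => pullback.hom_ext (e₁.trans (pullback.lift_fst _ _ _).symm)
          (e₂.trans (pullback.lift_snd _ _ _).symm))⟩⟩, this⟩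

/-- the chart of a stratum -/
theorem isoOver_stratum {X Up T : Space S} {jp : Up ⟶ X} (hj : RepWith @IsOpenImmersion jp.hom) {i : T ⟶ Up}
    (hi : RepWith @IsClosedImmersion i.hom) {E : Set (Points Up.obj)} (hiE : Set.range (Points.map i.hom) = Eᶜ)
    {V : Over S} {f : (yon S).obj V ⟶ Up.obj}
    (h : ∀ (P : Sp S) (fst : P ⟶ T.obj) (snd : P ⟶ (yon S).obj V), IsPullback fst snd i.hom f → IsIso fst) :
    IsoOver (f ≫ jp.hom) (Points.map jp.hom '' E) := by
  intro R q hR hred hq
  have := mono_of_open hj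
  obtain ⟨q₁, hq₁⟩ := (exists_factor_iff Up.property X.property jp.hom hj q).2 (by
    rintro _ ⟨r, rfl⟩
    obtain ⟨v, hv⟩ := (hq r).1
    exact ⟨Points.ofPt f v, by rw [Points.map_ofPt]; exact hv⟩)
  obtain ⟨q₂, hq₂⟩ := SchImg.exists_factor_of_reduced hi hR Up.property hred (f := q₁) (by
    rintro _ ⟨r, rfl⟩
    rw [hiE]
    exact fun hr => (hq r).2 ⟨_, hr, by rw [← Points.map_comp, hq₁]⟩)
  have := h _ _ _ (IsPullback.of_hasPullback i.hom f)
  refine ⟨pullback.lift (𝟙 R) (q₂ ≫ inv (pullback.fst i.hom f) ≫ pullback.snd i.hom f) ?_, ?_,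
    pullback.lift_fst _ _ _⟩
  · rw [Category.id_comp, ← hq₁, ← hq₂]
    simp only [Category.assoc]
    rw [← pullback.condition_assoc, IsIso.inv_hom_id_assoc]
  · refine pullback.hom_ext (by rw [Category.assoc, pullback.lift_fst, Category.comp_id, Category.id_comp]) ?_
    rw [Category.assoc, pullback.lift_snd, Category.id_comp]
    have e : (pullback.fst q (f ≫ jp.hom) ≫ q₂) ≫ i.hom = pullback.snd q (f ≫ jp.hom) ≫ f := by
      rw [← cancel_mono jp.hom, Category.assoc, Category.assoc, Category.assoc, reassoc_of% hq₂, hq₁,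
        pullback.condition]
    have e' : pullback.lift _ _ e = (pullback.fst q (f ≫ jp.hom) ≫ q₂) ≫ inv (pullback.fst i.hom f) := by
      rw [IsIso.eq_comp_inv, pullback.lift_fst]
    rw [← Category.assoc, ← Category.assoc, ← e', pullback.lift_snd]

end Groth.Agent.ElemSq
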